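import Groth.Agent.GaloisBrauer.H13.ConstTorsor
import Groth.Agent.Pi1Quot.Galois
import Groth.Agent.H1Proper.FpqcTorsor
import Mathlib.AlgebraicGeometry.Morphisms.Finite
import Mathlib.AlgebraicGeometry.Sites.Proetale
import Mathlib.RingTheory.Etale.Field
/-! # The torsor of a finite Galois extension -/

set_option autoImplicit false
set_option backward.isDefEq.respectTransparency false
set_option synthInstance.maxHeartbeats 400000

universe u

open CategoryTheory CategoryTheory.Limits MonoidalCategory CartesianMonoidalCategory MonObj AlgebraicGeometry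
open scoped TensorProduct

namespace Groth.GaloisBrauer.H13

variable (K F : Type u) [Field K] [Field F] [Algebra K F] [FiniteDimensional K F] [IsGalois K F]

/-- `Spec F` over `Spec K`. -/
noncomputable abbrev specOver : Over (Spec (CommRingCat.of K)) :=
  Over.mk (Spec.map (CommRingCat.ofHom (algebraMap K F)))

/-- A Galois automorphism acting on `Spec F`. -/
noncomputable def galAut (σ : F ≃ₐ[K] F) : specOver K F ⟶ specOver K F :=
  Over.homMk (Spec.map (CommRingCat.ofHom (σ⁻¹ : F ≃ₐ[K] F).toAlgHom.toRingHom)) (by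
    change Spec.map (CommRingCat.ofHom (σ⁻¹ : F ≃ₐ[K] F).toAlgHom.toRingHom) ≫ Spec.map (CommRingCat.ofHom (algebraMap K F)) = _
    rw [← Spec.map_comp, ← CommRingCat.ofHom_comp]
    congr 2
    exact RingHom.ext (σ⁻¹ : F ≃ₐ[K] F).commutes)

theorem isIso_graph : IsIso (Sigma.desc fun σ : F ≃ₐ[K] F => (lift (galAut K F σ) (𝟙 (specOver K F))).left) := by
  classical
  let e := (pullbackSpecIso K F F)
  have hfree : Pi1Quot.IsFreeAction (F ≃ₐ[K] F) F := fun σ hσ => by
    obtain ⟨x, hx⟩ : ∃ x, σ x ≠ x := by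
      by_contra! h
      exact hσ (AlgEquiv.ext h)
    exact Ideal.eq_top_of_isUnit_mem _ (Ideal.subset_span ⟨x, rfl⟩) (isUnit_iff_ne_zero.2 (sub_ne_zero.2 hx))
  have : Algebra.IsInvariant K F (F ≃ₐ[K] F) := ⟨fun x hx => by
    obtain ⟨r, hr⟩ := (IsGalois.mem_range_algebraMap_iff_fixed x).2 hx
    exact ⟨r, hr⟩⟩
  let Φ : F ⊗[K] F →+* ((F ≃ₐ[K] F) → F) :=
    (Pi1Quot.galoisMap (F ≃ₐ[K] F) F K).toRingHom
  have hΦ : Function.Bijective Φ := Pi1Quot.galoisMap_bijective K hfree
  have : IsIso (CommRingCat.ofHom Φ) :=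
    (RingEquiv.toCommRingCatIso (RingEquiv.ofBijective Φ hΦ)).isIso_hom
  let R : (F ≃ₐ[K] F) → CommRingCat.{u} := fun _ => CommRingCat.of F
  let ρ : (∐ fun _ : F ≃ₐ[K] F => Spec (CommRingCat.of F)) ⟶
      pullback (Spec.map (CommRingCat.ofHom (algebraMap K F))) (Spec.map (CommRingCat.ofHom (algebraMap K F))) :=
    sigmaSpec R ≫ Spec.map (CommRingCat.ofHom Φ) ≫ e.inv ≫ (pullbackSymmetry _ _).hom
  have hρ : IsIso ρ := inferInstance
  have hsp : ∀ (τ : F ≃ₐ[K] F) (A : CommRingCat.{u}) (g : A ⟶ CommRingCat.of (F ⊗[K] F)),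
      Sigma.ι (fun σ => Spec (R σ)) τ ≫ sigmaSpec R ≫ Spec.map (CommRingCat.ofHom Φ) ≫ Spec.map g =
        Spec.map ((g ≫ CommRingCat.ofHom Φ) ≫ CommRingCat.ofHom (Pi.evalRingHom (fun _ => F) τ)) := fun τ A g => by
    rw [ι_sigmaSpec_assoc, ← Spec.map_comp, ← Spec.map_comp]
  have key : Sigma.desc (fun σ : F ≃ₐ[K] F => (lift (galAut K F σ) (𝟙 (specOver K F))).left) =
      (Sigma.whiskerEquiv (f := fun _ : F ≃ₐ[K] F => Spec (CommRingCat.of F)) (g := fun _ => Spec (CommRingCat.of F))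
        (Equiv.inv (F ≃ₐ[K] F)) fun _ => Iso.refl _).hom ≫ ρ := by
    refine Sigma.hom_ext _ _ fun σ => ?_
    rw [Sigma.ι_desc, Sigma.whiskerEquiv_hom, Sigma.ι_comp_map'_assoc, Iso.refl_inv]
    erw [Category.id_comp]
    refine pullback.hom_ext (f := Spec.map (CommRingCat.ofHom (algebraMap K F)))
      (g := Spec.map (CommRingCat.ofHom (algebraMap K F))) ?_ ?_
    · simp only [ρ, Category.assoc, pullbackSymmetry_hom_comp_fst, e, pullbackSpecIso_inv_snd]
      refine Eq.trans ?_ (hsp σ⁻¹ _ _).symm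
      change (lift (galAut K F σ) (𝟙 (specOver K F)) ≫ fst _ _).left = _
      rw [lift_fst]
      refine congrArg Spec.map (CommRingCat.hom_ext (RingHom.ext fun a => ?_))
      show σ⁻¹ a = Pi1Quot.galoisMap (F ≃ₐ[K] F) F K ((1 : F) ⊗ₜ a) σ⁻¹
      rw [Pi1Quot.galoisMap_tmul, _root_.one_mul]
      rfl
    · simp only [ρ, Category.assoc, pullbackSymmetry_hom_comp_snd, e, pullbackSpecIso_inv_fst]
      refine Eq.trans ?_ (hsp σ⁻¹ _ _).symm
      change (lift (galAut K F σ) (𝟙 (specOver K F)) ≫ snd _ _).left = _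
      rw [lift_snd]
      refine (Spec.map_id (CommRingCat.of F)).symm.trans
        (congrArg Spec.map (CommRingCat.hom_ext (RingHom.ext fun a => ?_)))
      show a = Pi1Quot.galoisMap (F ≃ₐ[K] F) F K (a ⊗ₜ (1 : F)) σ⁻¹
      rw [Pi1Quot.galoisMap_tmul, smul_one, _root_.mul_one]
  rw [key]
  infer_instance

variable {k : Type u} [Field k] [Algebra k K]

/-- A finite Galois extension is a torsor under the constant finite group scheme of its Galois group. -/
theorem exists_galois_torsor :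
    ∃ (S : Over (Spec (CommRingCat.of k))) (_ : GrpObj S) (_ : IsFinite S.hom)
      (β : NonAbH1.TorsorSch (Red.bc (Spec.map (CommRingCat.ofHom (algebraMap k K))) S) Scheme.etalePrecoverage),
      Nonempty (β.X ≅ specOver K F) := by
  classical
  let S := TwC.const (Spec (CommRingCat.of k)) (F ≃ₐ[K] F)
  letI := constGrp (Spec (CommRingCat.of k)) (F ≃ₐ[K] F)
  have hfin : IsFinite S.hom := by
    show IsFinite (Sigma.desc fun _ : F ≃ₐ[K] F => 𝟙 (Spec (CommRingCat.of k)))
    let R : (F ≃ₐ[K] F) → CommRingCat.{u} := fun _ => CommRingCat.of k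
    have e : (Sigma.desc fun _ : F ≃ₐ[K] F => 𝟙 (Spec (CommRingCat.of k))) =
        sigmaSpec R ≫ Spec.map (CommRingCat.ofHom (Pi.constRingHom (F ≃ₐ[K] F) k)) := by
      refine Sigma.hom_ext _ _ fun σ => ?_
      rw [Sigma.ι_desc, ι_sigmaSpec_assoc, ← Spec.map_comp, ← Spec.map_id]
      congr 1
    rw [e]
    have : IsFinite (Spec.map (CommRingCat.ofHom (Pi.constRingHom (F ≃ₐ[K] F) k))) := by
      rw [IsFinite.SpecMap_iff]
      exact RingHom.finite_algebraMap.2 (inferInstance : Module.Finite k ((F ≃ₐ[K] F) → k))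
    infer_instance
  obtain ⟨a, ha⟩ := exists_action (M := F ≃ₐ[K] F) (Spec.map (CommRingCat.ofHom (algebraMap k K))) (galAut K F)
    (by
      refine Over.OverMorphism.ext ?_
      show Spec.map _ = 𝟙 _
      rw [← Spec.map_id]
      congr 1)
    (fun σ τ => by
      refine Over.OverMorphism.ext ?_
      show Spec.map _ = Spec.map _ ≫ Spec.map _
      rw [← Spec.map_comp, ← CommRingCat.ofHom_comp]
      congr 2)
  refine ⟨S, inferInstance, hfin, ⟨specOver K F, a, ha (isIso_graph K F), ?_⟩, ⟨Iso.refl _⟩⟩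
  refine ⟨Presieve.singleton (Spec.map (CommRingCat.ofHom (algebraMap K F))), ?_, ?_⟩
  · rw [Scheme.etalePrecoverage, Scheme.singleton_mem_precoverage_iff]
    have hsurj : Surjective (Spec.map (CommRingCat.ofHom (algebraMap K F))) :=
      ⟨fun y => ⟨(⊥ : PrimeSpectrum F), Subsingleton.elim _ _⟩⟩
    refine ⟨hsurj.surj, ?_⟩
    have : Algebra.Etale K F := 
      ⟨Algebra.FormallyEtale.of_isSeparable K F, Algebra.FinitePresentation.of_finiteType.1 inferInstance⟩
    rw [HasRingHomProperty.Spec_iff (P := @Etale)]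
    exact RingHom.etale_algebraMap.2 this
  · rintro T g ⟨⟩
    exact ⟨𝟙 _, Category.id_comp _⟩

end Groth.GaloisBrauer.H13
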