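import Groth.Agent.SGA7.ConstPoints
import Groth.Agent.Pi1Tors.Points
import Groth.Prelude.Def_ActBC
import Mathlib.AlgebraicGeometry.Limits
import Mathlib.Topology.LocallyConstant.Algebra
/-! # The constant group scheme, and pseudo-torsors under it from actions of the abstract group -/

set_option autoImplicit false
set_option backward.isDefEq.respectTransparency false
set_option synthInstance.maxHeartbeats 400000
set_option maxHeartbeats 800000
attribute [local instance 10000] CategoryTheory.Hom.group

universe u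

open CategoryTheory CategoryTheory.Limits MonoidalCategory CartesianMonoidalCategory MonObj AlgebraicGeometry

namespace Groth.GaloisBrauer.H13

open Groth.SGA7

variable (S : Scheme.{u}) (M : Type u) [Group M]

/-- Points of the constant scheme as locally constant functions. -/
noncomputable def ptsEquiv (T : Over S) : (T ⟶ TwC.const S M) ≃ LocallyConstant T.left M :=
  Equiv.ofBijective (fun φ => ⟨ConstPoints.idx φ, ConstPoints.isLocallyConstant_idx φ⟩)
    ⟨fun _ _ h => ConstPoints.ext (congrArg (fun f : LocallyConstant T.left M => ⇑f) h), fun f => by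
      obtain ⟨φ, hφ⟩ := ConstPoints.exists_of_isLocallyConstant T f f.isLocallyConstant
      exact ⟨φ, LocallyConstant.coe_injective hφ⟩⟩

/-- The presheaf of locally constant functions with values in `M`. -/
noncomputable def constFunctor : (Over S)ᵒᵖ ⥤ GrpCat.{u} where
  obj T := GrpCat.of (LocallyConstant T.unop.left M)
  map f := GrpCat.ofHom (MonoidHom.mk' (LocallyConstant.comap ⟨_, f.unop.left.continuous⟩) fun _ _ => rfl)
  map_id _ := rfl
  map_comp _ _ := rfl

/-- It is represented by the constant scheme. -/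
noncomputable def constRep : (constFunctor S M ⋙ forget _).RepresentableBy (TwC.const S M) where
  homEquiv {T} := ptsEquiv S M T
  homEquiv_comp _ _ := rfl

/-- The constant group. -/
@[reducible] noncomputable def constGrp : GrpObj (TwC.const S M) :=
  GrpObj.ofRepresentableBy _ (constFunctor S M) (constRep S M)

theorem idx_mul {T : Over S} (a b : T ⟶ TwC.const S M) (t : T.left) :
    letI := constGrp S M
    ConstPoints.idx (a * b) t = ConstPoints.idx a t * ConstPoints.idx b t := by
  letI := constGrp S M
  have h := ((yonedaGrpObjIsoOfRepresentableBy _ (constFunctor S M) (constRep S M)).hom.app (Opposite.op T)).hom.map_mul a b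
  exact congrArg (fun f : LocallyConstant T.left M => f t) h

variable {S M} {S' : Scheme.{u}} (f : S' ⟶ S)

/-- The index of a point of the base-changed constant scheme. -/
noncomputable def jx {T : Over S'} (φ : T ⟶ Red.bc f (TwC.const S M)) (t : T.left) : M :=
  ConstPoints.idx (((Over.mapPullbackAdj f).homEquiv T _).symm φ) t

theorem jx_comp {T T' : Over S'} (j : T' ⟶ T) (φ : T ⟶ Red.bc f (TwC.const S M)) (t : T'.left) :
    jx f (j ≫ φ) t = jx f φ (j.left.base t) := by
  rw [jx, Adjunction.homEquiv_naturality_left_symm]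
  rfl

theorem jx_ext {T : Over S'} {φ ψ : T ⟶ Red.bc f (TwC.const S M)} (h : ∀ t, jx f φ t = jx f ψ t) : φ = ψ :=
  ((Over.mapPullbackAdj f).homEquiv T _).symm.injective (ConstPoints.ext (funext h))

theorem isLocallyConstant_jx {T : Over S'} (φ : T ⟶ Red.bc f (TwC.const S M)) : IsLocallyConstant (jx f φ) :=
  ConstPoints.isLocallyConstant_idx (((Over.mapPullbackAdj f).homEquiv T _).symm φ)

theorem exists_jx (T : Over S') (h : T.left → M) (hh : IsLocallyConstant h) :
    ∃ φ : T ⟶ Red.bc f (TwC.const S M), ∀ t, jx f φ t = h t := by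
  obtain ⟨ψ, hψ⟩ := ConstPoints.exists_of_isLocallyConstant ((Over.map f).obj T) h hh
  exact ⟨(Over.mapPullbackAdj f).homEquiv T _ ψ, fun t => by rw [jx, Equiv.symm_apply_apply]; exact congrFun hψ t⟩

theorem jx_mul {T : Over S'} (a b : T ⟶ Red.bc f (TwC.const S M)) (t : T.left) :
    letI := constGrp S M
    jx f (a * b) t = jx f a t * jx f b t := by
  letI := constGrp S M
  obtain ⟨a', rfl⟩ := ((Over.mapPullbackAdj f).homEquiv T _).surjective a
  obtain ⟨b', rfl⟩ := ((Over.mapPullbackAdj f).homEquiv T _).surjective b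
  simp only [jx, ← AlgGrp.Action.homEquiv_mul f, Equiv.symm_apply_apply]
  exact idx_mul S M a' b' t

theorem jx_one {T : Over S'} (t : T.left) :
    letI := constGrp S M
    jx f (1 : T ⟶ Red.bc f (TwC.const S M)) t = 1 := by
  letI := constGrp S M
  have := jx_mul f (1 : T ⟶ Red.bc f (TwC.const S M)) 1 t
  rw [_root_.mul_one] at this
  exact left_eq_mul.mp this

section Action

variable {X : Over S'} (r : M → (X ⟶ X))

/-- The piece of `T` where a locally constant function has a given value. -/
noncomputable abbrev pieceSet {T : Over S'} (φ : T ⟶ Red.bc f (TwC.const S M)) (m : M) : T.left.Opens :=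
  ⟨jx f φ ⁻¹' {m}, isLocallyConstant_jx f φ _⟩

theorem isOpenCover_pieceSet {T : Over S'} (φ : T ⟶ Red.bc f (TwC.const S M)) :
    TopologicalSpace.IsOpenCover (pieceSet f φ) :=
  .mk (top_le_iff.mp fun t _ => TopologicalSpace.Opens.mem_iSup.mpr ⟨jx f φ t, rfl⟩)

theorem piece_ext {T : Over S'} (φ : T ⟶ Red.bc f (TwC.const S M)) {Y : Over S'} {q q' : T ⟶ Y}
    (h : ∀ m, ConstPoints.pieceι T (pieceSet f φ m) ≫ q = ConstPoints.pieceι T (pieceSet f φ m) ≫ q') : q = q' :=
  Over.OverMorphism.ext ((T.left.openCoverOfIsOpenCover _ (isOpenCover_pieceSet f φ)).hom_ext _ _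
    fun m => congrArg CommaMorphism.left (h m))

theorem exists_actPt {T : Over S'} (φ : T ⟶ Red.bc f (TwC.const S M)) (x : T ⟶ X) :
    ∃ q : T ⟶ X, ∀ (T' : Over S') (j : T' ⟶ T) (m : M), (∀ t, jx f φ (j.left.base t) = m) →
      j ≫ q = j ≫ x ≫ r m := by
  let U : M → T.left.Opens := pieceSet f φ
  let 𝒰 := T.left.openCoverOfIsOpenCover U (isOpenCover_pieceSet f φ)
  let g : ∀ m : M, ↑(U m) ⟶ X.left := fun m => (U m).ι ≫ x.left ≫ (r m).left
  have hg : ∀ i j : M, pullback.fst (U i).ι (U j).ι ≫ g i = pullback.snd (U i).ι (U j).ι ≫ g j := by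
    intro i j
    rcases eq_or_ne i j with rfl | hij
    · rw [show pullback.fst (U i).ι (U i).ι = pullback.snd _ _ from (cancel_mono (U i).ι).mp pullback.condition]
    · haveI : IsEmpty ↑(pullback (U i).ι (U j).ι) := ⟨fun z => hij (by
        have hi : jx f φ ((U i).ι ((pullback.fst (U i).ι (U j).ι).base z)) = i := ((pullback.fst (U i).ι (U j).ι).base z).2
        have hj : jx f φ ((U j).ι ((pullback.snd (U i).ι (U j).ι).base z)) = j := ((pullback.snd (U i).ι (U j).ι).base z).2
        exact hi.symm.trans ((congrArg (jx f φ) (congrArg (fun q => q.base z) (pullback.condition (f := (U i).ι) (g := (U j).ι)))).trans hj))⟩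
      exact isInitialOfIsEmpty.hom_ext _ _
  have hw : 𝒰.glueMorphisms g hg ≫ X.hom = T.hom := 𝒰.hom_ext _ _ fun m => by
    refine (Category.assoc _ _ _).symm.trans ((congrArg (fun q => q ≫ X.hom) (𝒰.ι_glueMorphisms g hg m)).trans ?_)
    show ((U m).ι ≫ x.left ≫ (r m).left) ≫ X.hom = (U m).ι ≫ T.hom
    rw [Category.assoc, Category.assoc, Over.w (r m), Over.w x]
  refine ⟨Over.homMk (𝒰.glueMorphisms g hg) hw, fun T' j m hj => ?_⟩
  have hr : Set.range j.left ⊆ Set.range (U m).ι := by
    rintro _ ⟨t, rfl⟩
    rw [Scheme.Opens.range_ι]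
    exact hj t
  refine Over.OverMorphism.ext ?_
  show j.left ≫ 𝒰.glueMorphisms g hg = j.left ≫ x.left ≫ (r m).left
  rw [← IsOpenImmersion.lift_fac (U m).ι j.left hr, Category.assoc, Category.assoc]
  exact congrArg _ (𝒰.ι_glueMorphisms g hg m)

/-- An action of the abstract group gives an action of the constant group scheme; it makes `X` a pseudo-torsor
when the graphs of the translations decompose `X × X`. -/
theorem exists_action (hr1 : r 1 = 𝟙 X) (hrmul : ∀ m n, r (m * n) = r n ≫ r m) :
    letI := constGrp S M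
    ∃ a : AlgGrp.Action (Red.bc f (TwC.const S M)) X,
      IsIso (Sigma.desc fun m : M => (lift (r m) (𝟙 X)).left) → NonAbH1.IsPseudoTorsorSch a := by
  letI := constGrp S M
  set G := Red.bc f (TwC.const S M)
  obtain ⟨A, hA⟩ := exists_actPt f r (fst G X) (snd G X)
  have hdot : ∀ (T : Over S') (φ : T ⟶ G) (x : T ⟶ X) (T' : Over S') (j : T' ⟶ T) (m : M),
      (∀ t, jx f φ (j.left.base t) = m) → j ≫ lift φ x ≫ A = j ≫ x ≫ r m := by
    intro T φ x T' j m hj
    rw [← Category.assoc, hA T' (j ≫ lift φ x) m fun t => by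
      rw [← jx_comp f (j ≫ lift φ x) (fst G X), Category.assoc, lift_fst, jx_comp]; exact hj t]
    rw [Category.assoc, lift_snd_assoc]
  have hone : ∀ (T : Over S') (x : T ⟶ X), lift (1 : T ⟶ G) x ≫ A = x := fun T x => by
    have h := hdot T 1 x T (𝟙 T) 1 fun t => jx_one f _
    rwa [hr1, Category.id_comp, Category.id_comp, Category.comp_id] at h
  have hmul : ∀ (T : Over S') (φ ψ : T ⟶ G) (x : T ⟶ X),
      lift (φ * ψ) x ≫ A = lift φ (lift ψ x ≫ A) ≫ A := fun T φ ψ x => by
    refine piece_ext f φ fun m => piece_ext f (ConstPoints.pieceι T (pieceSet f φ m) ≫ ψ) fun n => ?_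
    set T₁ := ConstPoints.piece T (pieceSet f φ m)
    set j₁ := ConstPoints.pieceι T (pieceSet f φ m)
    set j₂ := ConstPoints.pieceι T₁ (pieceSet f (j₁ ≫ ψ) n)
    have h1 : ∀ t, jx f φ ((j₂ ≫ j₁).left.base t) = m := fun t => (j₂.left.base t).2
    have h2 : ∀ t, jx f ψ ((j₂ ≫ j₁).left.base t) = n := fun t => by
      have h := t.2
      simp only [pieceSet, Set.mem_preimage, Set.mem_singleton_iff] at h
      refine Eq.trans ?_ h
      rw [jx_comp]; rfl
    rw [← Category.assoc j₂ j₁, ← Category.assoc j₂ j₁]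
    rw [hdot T (φ * ψ) x _ _ (m * n) (fun t => by rw [jx_mul, h1, h2]), hdot T φ _ _ _ m h1, hrmul,
      ← Category.assoc (j₂ ≫ j₁) (lift ψ x ≫ A) (r m), hdot T ψ x _ _ n h2]
    simp only [Category.assoc]
  let a : AlgGrp.Action G X :=
    { act := A
      one_act := by
        have h : (η[G] ▷ X) = lift (1 : _ ⟶ G) (λ_ X).hom := by
          apply CartesianMonoidalCategory.hom_ext
          · rw [whiskerRight_fst, lift_fst, Hom.one_def]
            exact congrArg (· ≫ η[G]) (toUnit_unique _ _)
          · rw [whiskerRight_snd, lift_snd, leftUnitor_hom]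
        rw [h, hone]
      mul_act := by
        have h1 : μ[G] ▷ X = lift ((fst _ X ≫ fst G G) * (fst _ X ≫ snd G G)) (snd (G ⊗ G) X) := by
          apply CartesianMonoidalCategory.hom_ext
          · rw [whiskerRight_fst, lift_fst, ← MonObj.comp_mul, Hom.mul_def, lift_fst_snd, Category.id_comp]
          · rw [whiskerRight_snd, lift_snd]
        rw [h1, hmul, ← Category.assoc]
        congr 1
        apply CartesianMonoidalCategory.hom_ext
        · simp
        · rw [lift_snd, Category.assoc, whiskerLeft_snd, ← Category.assoc]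
          congr 1
          apply CartesianMonoidalCategory.hom_ext <;> simp }
  refine ⟨a, fun hiso => ?_⟩
  let σ : (∐ fun _ : M => X.left) ⟶ (X ⊗ X).left := Sigma.desc fun m : M => (lift (r m) (𝟙 X)).left
  have hσ : ∀ m, Sigma.ι (fun _ : M => X.left) m ≫ σ = (lift (r m) (𝟙 X)).left := fun m => Sigma.ι_desc _ _
  haveI : IsIso σ := hiso
  let N : (X ⊗ X).left → M := fun p => ((sigmaMk fun _ : M => X.left).symm ((inv σ).base p)).1
  have hN : IsLocallyConstant N := by
    have h1 : IsLocallyConstant (fun z : Σ _ : M, X.left => z.1) := by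
      refine IsLocallyConstant.iff_isOpen_fiber.mpr fun m => ?_
      convert isOpen_range_sigmaMk (σ := fun _ : M => ↥X.left) (i := m)
      ext ⟨c, x⟩; simp [eq_comm]
    exact h1.comp_continuous ((sigmaMk fun _ : M => X.left).symm.continuous.comp (inv σ).continuous)
  have hNeq : ∀ (m : M) (p : X.left), N ((lift (r m) (𝟙 X)).left.base p) = m := fun m p => by
    have : (inv σ).base ((lift (r m) (𝟙 X)).left.base p) = (Sigma.ι (fun _ : M => X.left) m).base p := by
      rw [← Scheme.Hom.comp_apply, ← hσ m,
        Category.assoc, IsIso.hom_inv_id, Category.comp_id]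
    simp only [N]
    rw [this, ← sigmaMk_mk, Homeomorph.symm_apply_apply]
  refine Pi1Tors.isPseudoTorsor_of_points a (fun T x y => ?_) (fun T g g' x h => ?_)
  · obtain ⟨g, hg⟩ := exists_jx (M := M) f T (fun t => N ((lift x y).left.base t))
      (hN.comp_continuous (lift x y).left.continuous)
    refine ⟨g, piece_ext f g fun m => ?_⟩
    set j := ConstPoints.pieceι T (pieceSet f g m)
    rw [show Pi1Tors.dot a g y = lift g y ≫ A from rfl, hdot T g y _ j m fun t => t.2]
    have hmem : Set.range (j ≫ lift x y).left ⊆ Set.range (lift (r m) (𝟙 X)).left := by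
      rintro _ ⟨t, rfl⟩
      set p := (j ≫ lift x y).left.base t
      have hp : N p = m := (hg (j.left.base t)).symm.trans t.2
      obtain ⟨⟨m', q⟩, hq⟩ := (sigmaMk fun _ : M => X.left).surjective ((inv σ).base p)
      have hm' : m' = m := by rw [← hp]; simp only [N]; rw [← hq, Homeomorph.symm_apply_apply]
      subst hm'
      refine ⟨q, ?_⟩
      have := congrArg σ.base hq
      rw [sigmaMk_mk] at this
      rw [← Scheme.Hom.comp_apply, ← Scheme.Hom.comp_apply (inv σ) σ, IsIso.inv_hom_id] at this
      rw [← hσ]; exact this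
    have : IsOpenImmersion (lift (r m) (𝟙 X)).left := by
      rw [← hσ]
      infer_instance
    let w := IsOpenImmersion.lift (lift (r m) (𝟙 X)).left (j ≫ lift x y).left hmem
    have hw := IsOpenImmersion.lift_fac (lift (r m) (𝟙 X)).left (j ≫ lift x y).left hmem
    let w' : ConstPoints.piece T (pieceSet f g m) ⟶ X := Over.homMk w (by
      rw [← Over.w (lift (r m) (𝟙 X)), reassoc_of% hw]; exact Over.w (j ≫ lift x y))
    have e : w' ≫ lift (r m) (𝟙 X) = j ≫ lift x y := Over.OverMorphism.ext hw
    have e1 := congrArg (· ≫ fst X X) e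
    have e2 := congrArg (· ≫ snd X X) e
    simp only [Category.assoc, lift_fst, lift_snd, Category.comp_id] at e1 e2
    rw [← Category.assoc, ← e2, e1]
  · refine jx_ext f fun t => ?_
    set U : T.left.Opens := pieceSet f g (jx f g t) ⊓ pieceSet f g' (jx f g' t)
    set j := ConstPoints.pieceι T U
    have h1 := hdot T g x _ j _ fun z => z.2.1
    have h2 := hdot T g' x _ j _ fun z => z.2.2
    have hh : j ≫ x ≫ lift (r (jx f g t)) (𝟙 X) = j ≫ x ≫ lift (r (jx f g' t)) (𝟙 X) := by
      simp only [comp_lift, Category.comp_id]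
      rw [← h1, ← h2]
      exact congrArg (fun z => lift (j ≫ z) (j ≫ x)) h
    let t' : U := ⟨t, rfl, rfl⟩
    have := congrArg (fun z => N (z.left.base t')) hh
    simp only [Over.comp_left, Scheme.Hom.comp_apply] at this
    exact (hNeq _ _).symm.trans (this.trans (hNeq _ _))

end Action

end Groth.GaloisBrauer.H13
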