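import Groth.Agent.GaloisBrauer.Descent
import Groth.Agent.CSA.SkolemNoether
import Groth.Agent.CSA.Wedderburn
import Groth.Agent.CSA.BaseChange
/-! # Over a field with trivial Brauer group every Galois two-cocycle is a coboundary -/

universe u

open scoped TensorProduct Classical

namespace Groth.GaloisBrauer.H13

variable (E₀ F : Type u) [Field E₀] [Field F] [Algebra E₀ F] [FiniteDimensional E₀ F] [IsGalois E₀ F]

local notation "Γ" => F ≃ₐ[E₀] F
local notation "Mat" => Matrix (F ≃ₐ[E₀] F) (F ≃ₐ[E₀] F) F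

variable {E₀ F} in
/-- The monomial matrix of a cochain. -/
noncomputable def monomialMat (c : Γ → Γ → Fˣ) (σ : Γ) : Mat := by
  classical exact Matrix.of fun x y => if x = σ * y then (c σ y : F) else 0

omit [FiniteDimensional E₀ F] [IsGalois E₀ F] in
open Classical in
theorem monomialMat_apply (c : Γ → Γ → Fˣ) (σ x y : Γ) :
    monomialMat c σ x y = if x = σ * y then (c σ y : F) else 0 := rfl

omit [IsGalois E₀ F] in
theorem monomialMat_mul (c : Γ → Γ → Fˣ)
    (hc : ∀ σ τ ρ : Γ, σ (c τ ρ : F) * c σ (τ * ρ) = (c σ τ : F) * c (σ * τ) ρ) (σ τ : Γ) :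
    monomialMat c σ * (monomialMat c τ).map σ = (c σ τ : F) • monomialMat c (σ * τ) := by
  classical
  ext x y
  rw [Matrix.mul_apply, Finset.sum_eq_single (τ * y)]
  · simp only [monomialMat_apply, Matrix.map_apply, if_true, Matrix.smul_apply, smul_eq_mul, mul_assoc σ τ y]
    split_ifs with h
    · rw [mul_comm, hc]
    · rw [zero_mul, mul_zero]
  · intro b _ hb
    simp [monomialMat_apply, Matrix.map_apply, hb]
  · simp

omit [IsGalois E₀ F] in
theorem isUnit_monomialMat (c : Γ → Γ → Fˣ) (σ : Γ) : IsUnit (monomialMat c σ) := by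
  classical
  refine IsUnit.of_mul_eq_one (Matrix.of fun y x => if x = σ * y then ((c σ y)⁻¹ : Fˣ).val else 0) ?_
  ext x z
  rw [Matrix.mul_apply, Finset.sum_eq_single (σ⁻¹ * x)]
  · by_cases h : z = x
    · subst h; simp [monomialMat_apply, mul_inv_cancel_left]
    · simp [monomialMat_apply, mul_inv_cancel_left, h, Ne.symm h]
  · intro b _ hb
    have : x ≠ σ * b := fun h => hb (by rw [h, inv_mul_cancel_left])
    simp [monomialMat_apply, this]
  · simp

open Classical in
theorem exists_coboundary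
    (hBr : ∀ (D : Type u) [DivisionRing D] [Algebra E₀ D] [Algebra.IsCentral E₀ D] [FiniteDimensional E₀ D],
      Module.finrank E₀ D = 1)
    (c : Γ → Γ → Fˣ)
    (hc : ∀ σ τ ρ : Γ, σ (c τ ρ : F) * c σ (τ * ρ) = (c σ τ : F) * c (σ * τ) ρ) :
    ∃ b : Γ → Fˣ, ∀ σ τ : Γ, (c σ τ : F) * b (σ * τ) = (b σ : F) * σ (b τ : F) := by
  let P : Γ → Matˣ := fun σ => (isUnit_monomialMat E₀ F c σ).unit
  have hP : ∀ σ, (P σ : Mat) = monomialMat c σ := fun σ => IsUnit.unit_spec _
  have hmapmul : ∀ (σ : Γ) (X Y : Mat), (X * Y).map σ = X.map σ * Y.map σ := fun σ X Y => Matrix.map_mul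
  have hmap1 : ∀ σ : Γ, (1 : Mat).map σ = 1 := fun σ => Matrix.map_one σ (map_zero σ) (map_one σ)
  let T : Γ → Mat →+ Mat := fun σ =>
    { toFun := fun X => (P σ : Mat) * X.map σ * ((P σ)⁻¹ : Matˣ)
      map_zero' := by simp
      map_add' := fun X Y => by rw [Matrix.map_add _ (map_add σ), mul_add, add_mul] }
  have hT : ∀ σ X, T σ X = (P σ : Mat) * X.map σ * ((P σ)⁻¹ : Matˣ) := fun σ X => rfl
  have hTmul : ∀ σ X Y, T σ (X * Y) = T σ X * T σ Y := fun σ X Y => by
    simp only [hT, hmapmul, mul_assoc, Units.inv_mul_cancel_left]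
  have hTone : ∀ σ, T σ 1 = 1 := fun σ => by simp [hT, hmap1]
  have hT' : ∀ σ X, T σ X * monomialMat c σ = monomialMat c σ * X.map σ := fun σ X => by
    rw [hT, ← hP, mul_assoc _ _ (P σ : Mat), Units.inv_mul, mul_one]
  have hmul : ∀ σ τ X, T (σ * τ) X = T σ (T τ X) := fun σ τ X => by
    have hu : IsUnit ((c σ τ : F) • monomialMat c (σ * τ)) :=
      (isUnit_monomialMat E₀ F c _).smul (c σ τ)
    refine hu.mul_right_cancel ?_
    conv_rhs => rw [← monomialMat_mul E₀ F c hc, ← mul_assoc, hT', mul_assoc, ← hmapmul, hT', hmapmul,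
      ← mul_assoc, monomialMat_mul E₀ F c hc, Matrix.map_map]
    rw [mul_smul_comm, hT', smul_mul_assoc]
    rfl
  have h1 : ∀ X, T 1 X = X := fun X => by
    have hinj : Function.Injective (T 1) := by
      intro X Y h
      rw [hT, hT, Units.mul_left_inj, Units.mul_right_inj] at h
      exact Matrix.map_injective (1 : Γ).injective h
    exact hinj (by rw [← hmul, one_mul])
  have hsemi : ∀ σ (r : F) X, T σ (r • X) = σ r • T σ X := fun σ r X => by
    rw [hT, hT, Matrix.map_smulₛₗ σ σ r (fun a => map_mul σ r a) X, mul_smul_comm, smul_mul_assoc]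
  let A₀ : Subalgebra E₀ Mat :=
    { carrier := {X | ∀ σ, T σ X = X}
      mul_mem' := fun hX hY σ => by rw [hTmul, hX σ, hY σ]
      one_mem' := hTone
      add_mem' := fun hX hY σ => by rw [map_add, hX σ, hY σ]
      zero_mem' := fun σ => map_zero _
      algebraMap_mem' := fun r σ => by
        rw [IsScalarTower.algebraMap_apply E₀ F Mat, Algebra.algebraMap_eq_smul_one, hsemi, hTone, AlgEquiv.commutes] }
  let θ : F ⊗[E₀] A₀ →ₐ[F] Mat := Algebra.TensorProduct.lift (Algebra.ofId F Mat) A₀.val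
    fun r X => Algebra.commutes r (X : Mat)
  have hθ : θ.toLinearMap = A₀.val.toLinearMap.liftBaseChange F := by
    refine TensorProduct.AlgebraTensorModule.ext fun r X => ?_
    show θ (r ⊗ₜ X) = r • (X : Mat)
    rw [Algebra.smul_def]
    exact Algebra.TensorProduct.lift_tmul _ _ _ _ _
  have hbij : Function.Bijective θ := by
    have := liftBaseChange_bijective T h1 hmul hsemi A₀.val.toLinearMap Subtype.val_injective
      fun X => ⟨by rintro ⟨Y, rfl⟩; exact Y.2, fun h => ⟨⟨X, h⟩, rfl⟩⟩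
    rw [← hθ] at this
    exact this
  let Θ := AlgEquiv.ofBijective θ hbij
  have hcard : Fintype.card Γ ≠ 0 := Fintype.card_ne_zero
  have hsplit : Curves.Splits E₀ A₀ F :=
    ⟨Fintype.card Γ, hcard, ⟨Θ.trans (Matrix.reindexAlgEquiv F F (Fintype.equivFin Γ))⟩⟩
  obtain ⟨_, _, _⟩ := CSA.csa_of_splits E₀ A₀ F hsplit
  obtain ⟨n, hn, D, _, _, hD1, hD2, ⟨e⟩⟩ := CSA.exists_matrix_divisionRing E₀ A₀
  have hdim := hBr D
  have hbijD : Function.Bijective (Algebra.ofId E₀ D) := by
    refine ⟨(algebraMap E₀ D).injective, ?_⟩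
    have hinj : Function.Injective (Algebra.ofId E₀ D).toLinearMap := (algebraMap E₀ D).injective
    exact (LinearMap.injective_iff_surjective_of_finrank_eq_finrank
      (by rw [Module.finrank_self, hdim])).1 hinj
  let e₁ : A₀ ≃ₐ[E₀] Matrix (Fin n) (Fin n) E₀ := e.trans (AlgEquiv.ofBijective (Algebra.ofId E₀ D) hbijD).symm.mapMatrix
  have hn' : n = Fintype.card Γ := by
    have h := Θ.toLinearEquiv.finrank_eq
    rw [Module.finrank_baseChange, e₁.toLinearEquiv.finrank_eq, Module.finrank_matrix, Module.finrank_self,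
      Module.finrank_matrix, Module.finrank_self, mul_one, mul_one, Fintype.card_fin] at h
    exact Nat.mul_self_inj.1 h
  let e₂ : Matrix Γ Γ E₀ ≃ₐ[E₀] A₀ :=
    (Matrix.reindexAlgEquiv E₀ E₀ ((Fintype.equivFin Γ).trans (finCongr hn'.symm))).trans e₁.symm
  let ψ : Matrix Γ Γ E₀ →ₐ[E₀] Mat := A₀.val.comp e₂.toAlgHom
  let ψ' : F ⊗[E₀] Matrix Γ Γ E₀ →ₐ[F] Mat :=
    Algebra.TensorProduct.lift (Algebra.ofId F Mat) ψ fun r X => Algebra.commutes r _
  let ω : F ⊗[E₀] Matrix Γ Γ E₀ →ₐ[F] Mat :=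
    Algebra.TensorProduct.lift (Algebra.ofId F Mat) (Algebra.ofId E₀ F).mapMatrix fun r X => Algebra.commutes r _
  have : Algebra.IsCentral E₀ (Matrix Γ Γ E₀) := inferInstance
  have : IsSimpleRing (F ⊗[E₀] Matrix Γ Γ E₀) := CSA.isSimpleRing_baseChange E₀ (Matrix Γ Γ E₀) F
  obtain ⟨Q, hQ⟩ := CSA.skolem_noether F ψ' ω
  have hQ' : ∀ X : Matrix Γ Γ E₀, ψ X = (Q : Mat) * X.map (algebraMap E₀ F) * (Q⁻¹ : Matˣ) := fun X => by
    have h := hQ (1 ⊗ₜ X)
    have h₁ : ψ' (1 ⊗ₜ X) = ψ X := (Algebra.TensorProduct.lift_tmul _ _ _ _ _).trans (by rw [map_one, one_mul])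
    have h₂ : ω (1 ⊗ₜ X) = X.map (algebraMap E₀ F) :=
      (Algebra.TensorProduct.lift_tmul _ _ _ _ _).trans (by rw [map_one, one_mul]; rfl)
    rwa [h₁, h₂] at h
  have hmapQ : ∀ σ : Γ, (Q⁻¹ : Matˣ).val.map σ * (Q : Mat).map σ = 1 := fun σ => by
    rw [← hmapmul, Units.inv_mul, hmap1]
  have hscal : ∀ σ, ∃ b : F, monomialMat c σ * (Q : Mat).map σ = b • (Q : Mat) := by
    intro σ
    have hmem : ((Q⁻¹ : Matˣ) : Mat) * (monomialMat c σ * (Q : Mat).map σ) ∈ Set.range (Matrix.scalar Γ) := by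
      refine Matrix.mem_range_scalar_of_commute_single fun i j _ => ?_
      let X : Matrix Γ Γ E₀ := Matrix.single i j 1
      have hX : X.map (algebraMap E₀ F) = Matrix.single i j (1 : F) := by
        rw [Matrix.map_single, map_one]
      have hXσ : (X.map (algebraMap E₀ F)).map σ = X.map (algebraMap E₀ F) := by
        rw [Matrix.map_map]; congr 1; ext r; exact σ.commutes r
      have hfix : T σ (ψ X) = ψ X := (e₂ X).2 σ
      have h := hT' σ (ψ X)
      rw [hfix, hQ', hmapmul, hmapmul, hXσ, hX] at h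
      set Z := Matrix.single i j (1 : F) with hZ
      show Z * _ = _ * Z
      calc Z * (((Q⁻¹ : Matˣ) : Mat) * (monomialMat c σ * (Q : Mat).map σ))
          = ((Q⁻¹ : Matˣ) : Mat) * (((Q : Mat) * Z * ((Q⁻¹ : Matˣ) : Mat)) * monomialMat c σ) * (Q : Mat).map σ := by
            simp only [mul_assoc, Units.inv_mul_cancel_left]
        _ = ((Q⁻¹ : Matˣ) : Mat) * (monomialMat c σ * (Q : Mat).map σ * Z) := by
            rw [h]; simp only [mul_assoc, hmapQ, mul_one]
        _ = _ := by simp only [mul_assoc]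
    obtain ⟨b, hb⟩ := hmem
    refine ⟨b, ?_⟩
    have := congrArg ((Q : Mat) * ·) hb
    simp only [Units.mul_inv_cancel_left] at this
    rw [← this]
    ext x y
    simp [Matrix.scalar_apply, Matrix.mul_diagonal, mul_comm b]
  choose b hb using hscal
  have hQne : (Q : Mat) ≠ 0 := Q.isUnit.ne_zero
  have hb0 : ∀ σ, b σ ≠ 0 := fun σ h => by
    have hu : IsUnit (monomialMat c σ * (Q : Mat).map σ) :=
      (isUnit_monomialMat E₀ F c σ).mul (IsUnit.map (σ : F →+* F).mapMatrix Q.isUnit)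
    exact hu.ne_zero (by rw [hb, h, zero_smul])
  refine ⟨fun σ => Units.mk0 (b σ) (hb0 σ), fun σ τ => ?_⟩
  refine smul_left_injective F hQne ?_
  have h := congrArg (fun X : Mat => monomialMat c σ * X.map σ) (hb τ)
  rw [Matrix.map_smulₛₗ σ σ (b τ) (fun a => map_mul σ (b τ) a), hmapmul, Matrix.map_map, ← mul_assoc,
    monomialMat_mul E₀ F c hc, mul_smul_comm, hb, smul_mul_assoc, smul_smul] at h
  show ((c σ τ : F) * b (σ * τ)) • (Q : Mat) = (b σ * σ (b τ)) • (Q : Mat)
  rw [mul_smul, ← hb (σ * τ)]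
  rw [mul_comm (b σ)]
  exact h

end Groth.GaloisBrauer.H13
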