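import Groth.Agent.CSA.Splitting
import Mathlib.RingTheory.RootsOfUnity.AlgebraicallyClosed
/-! # Splitting data of a division algebra whose two-cocycle takes values in the constants -/

universe u

open scoped TensorProduct MatrixGroups

namespace Groth.GaloisBrauer.H13

/-- A split form of `D` over `F` together with semilinear descent data whose cocycle lies in `k`. -/
structure MuData (k E : Type u) [Field k] [Field E] [Algebra k E] (D : Type u) [Ring D] [Algebra E D]
    (F : Type u) [Field F] [Algebra k F] [Algebra E F] where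
  n : ℕ
  ne : n ≠ 0
  dim : Module.finrank E D = n ^ 2
  φ : D →ₐ[E] Matrix (Fin n) (Fin n) F
  g : (F ≃ₐ[E] F) → GL (Fin n) F
  conj : ∀ σ x, (g σ : Matrix (Fin n) (Fin n) F) * (φ x).map σ = φ x * (g σ : Matrix (Fin n) (Fin n) F)
  cocycle : ∀ σ τ, ∃ z : k, (g σ : Matrix (Fin n) (Fin n) F) * (g τ : Matrix (Fin n) (Fin n) F).map σ =
    algebraMap k F z • (g (σ * τ) : Matrix (Fin n) (Fin n) F)

section Raw

variable {E : Type u} [Field E] {D : Type u} [Ring D] [Algebra E D] [Algebra.IsCentral E D] [IsSimpleRing D]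
  [FiniteDimensional E D] (F : Type u) [Field F] [Algebra E F]

open Classical in
theorem exists_raw (h : Curves.Splits E D F) :
    ∃ (n : ℕ) (_ : n ≠ 0) (φ : D →ₐ[E] Matrix (Fin n) (Fin n) F) (g : (F ≃ₐ[E] F) → GL (Fin n) F)
      (c : (F ≃ₐ[E] F) → (F ≃ₐ[E] F) → Fˣ), Module.finrank E D = n ^ 2 ∧
      (∀ σ x, (g σ : Matrix (Fin n) (Fin n) F) * (φ x).map σ = φ x * (g σ : Matrix (Fin n) (Fin n) F)) ∧
      (∀ σ τ, (g σ : Matrix (Fin n) (Fin n) F) * (g τ : Matrix (Fin n) (Fin n) F).map σ =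
        (c σ τ : F) • (g (σ * τ) : Matrix (Fin n) (Fin n) F)) ∧
      ∀ σ τ ρ, σ (c τ ρ : F) * c σ (τ * ρ) = (c σ τ : F) * c (σ * τ) ρ := by
  obtain ⟨n, hn, ⟨e⟩⟩ := h
  have : Nonempty (Fin n) := ⟨⟨0, Nat.pos_of_ne_zero hn⟩⟩
  have hdim : Module.finrank E D = n ^ 2 := by
    have h := e.toLinearEquiv.finrank_eq
    rw [Module.finrank_baseChange, Module.finrank_matrix, Module.finrank_self, mul_one, Fintype.card_fin] at h
    rw [h, sq]
  let φ : D →ₐ[E] Matrix (Fin n) (Fin n) F :=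
    (e.toAlgHom.restrictScalars E).comp Algebra.TensorProduct.includeRight
  have := CSA.isSimpleRing_baseChange E D F
  have hex : ∀ σ : F ≃ₐ[E] F, ∃ u : GL (Fin n) F, ∀ x,
      (u : Matrix (Fin n) (Fin n) F) * (φ x).map σ = φ x * (u : Matrix (Fin n) (Fin n) F) := by
    intro σ
    let φσ : D →ₐ[E] Matrix (Fin n) (Fin n) F := (σ.toAlgHom.mapMatrix).comp φ
    let f : F ⊗[E] D →ₐ[F] Matrix (Fin n) (Fin n) F :=
      Algebra.TensorProduct.lift (Algebra.ofId F _) φσ fun r x => Algebra.commutes r _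
    obtain ⟨u, hu⟩ := CSA.skolem_noether F e.toAlgHom f
    refine ⟨u, fun x => ?_⟩
    have h := hu (1 ⊗ₜ x)
    have hf : f (1 ⊗ₜ x) = (φ x).map σ :=
      (Algebra.TensorProduct.lift_tmul _ _ _ _ _).trans (by rw [map_one, one_mul]; rfl)
    rw [hf] at h
    show _ = (e (1 ⊗ₜ x)) * _
    rw [show e (1 ⊗ₜ x) = _ from h, mul_assoc, Units.inv_mul, mul_one]
  choose g hg using hex
  have hmapmul : ∀ (σ : F ≃ₐ[E] F) (X Y : Matrix (Fin n) (Fin n) F), (X * Y).map σ = X.map σ * Y.map σ :=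
    fun σ X Y => Matrix.map_mul
  let gm : (F ≃ₐ[E] F) → (F ≃ₐ[E] F) → GL (Fin n) F := fun σ τ =>
    g σ * Units.map ((σ : F →+* F).mapMatrix : Matrix (Fin n) (Fin n) F →+* Matrix (Fin n) (Fin n) F).toMonoidHom (g τ)
  have hgm : ∀ σ τ, (gm σ τ : Matrix (Fin n) (Fin n) F) =
      (g σ : Matrix (Fin n) (Fin n) F) * (g τ : Matrix (Fin n) (Fin n) F).map σ := fun σ τ => rfl
  have hscal : ∀ σ τ, ∃ c : F, (g σ : Matrix (Fin n) (Fin n) F) * (g τ : Matrix (Fin n) (Fin n) F).map σ =
      c • (g (σ * τ) : Matrix (Fin n) (Fin n) F) := by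
    intro σ τ
    set w : GL (Fin n) F := gm σ τ * (g (σ * τ))⁻¹ with hw
    have hcomm : ∀ x, φ x * (w : Matrix (Fin n) (Fin n) F) = (w : Matrix (Fin n) (Fin n) F) * φ x := by
      intro x
      have h1 : (gm σ τ : Matrix (Fin n) (Fin n) F) * (φ x).map (σ * τ : F ≃ₐ[E] F) = φ x * gm σ τ := by
        have h' := congrArg (fun X : Matrix (Fin n) (Fin n) F => X.map σ) (hg τ x)
        simp only [hmapmul, Matrix.map_map] at h'
        rw [hgm, mul_assoc]
        refine (congrArg _ h').trans ?_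
        rw [← mul_assoc, hg, mul_assoc]
      have h2 : (φ x).map (σ * τ : F ≃ₐ[E] F) * ((g (σ * τ))⁻¹ : GL (Fin n) F).val =
          ((g (σ * τ))⁻¹ : GL (Fin n) F).val * φ x := by
        rw [Units.mul_inv_eq_iff_eq_mul, mul_assoc, ← hg, Units.inv_mul_cancel_left]
      rw [hw, Units.val_mul, ← mul_assoc, ← h1, mul_assoc, h2, mul_assoc]
    have hc : (w : Matrix (Fin n) (Fin n) F) ∈ Subalgebra.center F (Matrix (Fin n) (Fin n) F) := by
      rw [Subalgebra.mem_center_iff]
      intro X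
      obtain ⟨z, rfl⟩ := e.surjective X
      induction z using TensorProduct.induction_on with
      | zero => simp
      | tmul r x =>
        have : e (r ⊗ₜ x) = r • φ x := by
          rw [← mul_one r, ← smul_eq_mul, ← TensorProduct.smul_tmul', map_smul, smul_eq_mul, mul_one]
          rfl
        rw [this, smul_mul_assoc, mul_smul_comm, hcomm]
      | add a b ha hb => rw [map_add, add_mul, mul_add, ha, hb]
    obtain ⟨c, hc⟩ := Algebra.mem_bot.1 (Algebra.IsCentral.out hc)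
    refine ⟨c, ?_⟩
    rw [Algebra.smul_def, hc, hw, Units.val_mul, Units.inv_mul_cancel_right, hgm]
  choose c hc using hscal
  have hc0 : ∀ σ τ, c σ τ ≠ 0 := fun σ τ h => (gm σ τ).isUnit.ne_zero (by rw [hgm, hc, h, zero_smul])
  refine ⟨n, hn, φ, g, fun σ τ => Units.mk0 _ (hc0 σ τ), hdim, hg, hc, fun σ τ ρ => ?_⟩
  refine smul_left_injective F (g (σ * τ * ρ)).isUnit.ne_zero ?_
  have h1 := congrArg (fun X : Matrix (Fin n) (Fin n) F => (g σ : Matrix (Fin n) (Fin n) F) * X.map σ) (hc τ ρ)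
  simp only [hmapmul, Matrix.map_map] at h1
  rw [Matrix.map_smulₛₗ σ σ (c τ ρ) (fun a => map_mul σ (c τ ρ) a), ← mul_assoc, hc, mul_smul_comm, hc,
    smul_mul_assoc, smul_smul] at h1
  show (σ (c τ ρ) * c σ (τ * ρ)) • (g (σ * τ * ρ) : Matrix (Fin n) (Fin n) F) = _
  rw [mul_assoc σ τ ρ, ← h1, show ((g ρ : Matrix (Fin n) (Fin n) F).map (σ ∘ τ)) =
    (g ρ : Matrix (Fin n) (Fin n) F).map (σ * τ : F ≃ₐ[E] F) from rfl, hc, smul_smul, mul_assoc σ τ ρ]
  rfl

end Raw

variable {k K E : Type u} [Field k] [IsAlgClosed k] [CharZero k] [Field K] [Algebra k K] [Field E] [Algebra K E]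
  [Algebra k E] [IsScalarTower k K E] [FiniteDimensional K E]
  (D : Type u) [DivisionRing D] [Algebra E D] [Algebra.IsCentral E D] [FiniteDimensional E D]

theorem exists_muData_aux (F₁ : Type u) [Field F₁] [Algebra k F₁] [Algebra K F₁] [Algebra E F₁]
    [IsScalarTower k K F₁] [IsScalarTower K E F₁] [FiniteDimensional E F₁] [IsGalois E F₁]
    (h : Curves.Splits E D F₁) :
    ∃ (F : Type u) (_ : Field F) (_ : Algebra k F) (_ : Algebra K F) (_ : Algebra E F),
      IsScalarTower k K F ∧ IsScalarTower K E F ∧ FiniteDimensional K F ∧ IsGalois K F ∧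
        Nonempty (MuData k E D F) := by
  classical
  obtain ⟨n, hn, φ, g, c, hdim, hg, hc, hcoc⟩ := exists_raw F₁ h
  let d := Fintype.card (F₁ ≃ₐ[E] F₁)
  have hd : 0 < d := Fintype.card_pos
  let b : (F₁ ≃ₐ[E] F₁) → F₁ˣ := fun σ => ∏ τ, c σ τ
  have hb : ∀ σ τ, (c σ τ : F₁) ^ d * b (σ * τ) = σ (b τ : F₁) * b σ := fun σ τ => by
    simp only [b, Units.coe_prod, map_prod]
    conv_rhs => rw [← Equiv.prod_comp (Equiv.mulLeft τ) (fun ρ => (c σ ρ : F₁))]
    rw [← Finset.prod_mul_distrib, show d = (Finset.univ : Finset (F₁ ≃ₐ[E] F₁)).card from rfl, ← Finset.prod_const,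
      ← Finset.prod_mul_distrib]
    exact Finset.prod_congr rfl fun ρ _ => (hcoc σ τ ρ).symm
  let Ω := AlgebraicClosure F₁
  have hroot : ∀ σ, ∃ r : Ω, r ^ d = algebraMap F₁ Ω (b σ) := fun σ => IsAlgClosed.exists_pow_nat_eq _ hd
  choose r hr using hroot
  have : FiniteDimensional K F₁ := FiniteDimensional.trans K E F₁
  have : CharZero K := charZero_of_injective_algebraMap (algebraMap k K).injective
  have : Algebra.IsAlgebraic K Ω := Algebra.IsAlgebraic.trans K F₁ Ω
  let i : F₁ →ₐ[K] Ω := IsScalarTower.toAlgHom K F₁ Ω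
  let A : IntermediateField K Ω := i.fieldRange ⊔ IntermediateField.adjoin K (Set.range r)
  have : FiniteDimensional K i.fieldRange :=
    Module.Finite.equiv (AlgEquiv.ofInjectiveField i).toLinearEquiv
  have : FiniteDimensional K (IntermediateField.adjoin K (Set.range r)) :=
    IntermediateField.finiteDimensional_adjoin fun x _ => Algebra.IsIntegral.isIntegral x
  have : FiniteDimensional K A := IntermediateField.finiteDimensional_sup _ _
  have : IsAlgClosure K Ω := ⟨inferInstance, inferInstance⟩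
  have : Normal K Ω := IsAlgClosure.normal K Ω
  let F : IntermediateField K Ω := IntermediateField.normalClosure K A Ω
  have : FiniteDimensional K F := inferInstance
  have : IsGalois K F := ⟨⟩
  have hle : A ≤ F := A.le_normalClosure
  have hF₁ : ∀ x, algebraMap F₁ Ω x ∈ F := fun x => hle ((le_sup_left : i.fieldRange ≤ A) ⟨x, rfl⟩)
  have hrF : ∀ σ, r σ ∈ F := fun σ =>
    hle ((le_sup_right : _ ≤ A) (IntermediateField.subset_adjoin K _ ⟨σ, rfl⟩))
  letI : Algebra F₁ F := ((algebraMap F₁ Ω).codRestrict F.toSubfield hF₁).toAlgebra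
  letI : Algebra E F := ((algebraMap F₁ F).comp (algebraMap E F₁)).toAlgebra
  have : IsScalarTower E F₁ F := IsScalarTower.of_algebraMap_eq fun _ => rfl
  letI : Algebra k F := ((algebraMap K F).comp (algebraMap k K)).toAlgebra
  have hkK : IsScalarTower k K F := IsScalarTower.of_algebraMap_eq fun _ => rfl
  have hKF₁ : IsScalarTower K F₁ F := IsScalarTower.of_algebraMap_eq fun x => Subtype.ext
    (IsScalarTower.algebraMap_apply K F₁ Ω x)
  have hKE : IsScalarTower K E F := IsScalarTower.of_algebraMap_eq fun x => by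
    rw [IsScalarTower.algebraMap_apply K F₁ F, IsScalarTower.algebraMap_apply K E F₁]; rfl
  refine ⟨F, inferInstance, inferInstance, inferInstance, inferInstance, hkK, hKE, inferInstance, inferInstance, ?_⟩
  let j : F₁ →ₐ[E] F := IsScalarTower.toAlgHom E F₁ F
  let res : (F ≃ₐ[E] F) →* (F₁ ≃ₐ[E] F₁) := AlgEquiv.restrictNormalHom F₁
  have hres : ∀ σ x, j (res σ x) = σ (j x) := fun σ x => AlgEquiv.restrictNormal_commutes σ F₁ x
  have hresm : ∀ (σ : F ≃ₐ[E] F) (X : Matrix (Fin n) (Fin n) F₁), (X.map j).map σ = (X.map (res σ)).map j := fun σ X => by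
    rw [Matrix.map_map, Matrix.map_map]; exact congrArg X.map (funext fun x => (hres σ x).symm)
  let R : (F₁ ≃ₐ[E] F₁) → F := fun σ => ⟨r σ, hrF σ⟩
  have hR : ∀ σ, R σ ^ d = j (b σ) := fun σ => Subtype.ext (hr σ)
  have hR0 : ∀ σ, R σ ≠ 0 := fun σ h => by
    have := hR σ
    rw [h, zero_pow hd.ne', eq_comm] at this
    exact (b σ).ne_zero ((map_eq_zero j).1 this)
  let g' : (F ≃ₐ[E] F) → GL (Fin n) F := fun σ =>
    Units.map (algebraMap F (Matrix (Fin n) (Fin n) F)).toMonoidHom (Units.mk0 _ (inv_ne_zero (hR0 (res σ)))) *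
      Units.map (j.toRingHom.mapMatrix : Matrix (Fin n) (Fin n) F₁ →+* Matrix (Fin n) (Fin n) F).toMonoidHom (g (res σ))
  have hg' : ∀ σ, (g' σ : Matrix (Fin n) (Fin n) F) = (R (res σ))⁻¹ • (g (res σ) : Matrix (Fin n) (Fin n) F₁).map j :=
    fun σ => (Algebra.smul_def _ _).symm
  refine ⟨⟨n, hn, hdim, j.mapMatrix.comp φ, g', fun σ x => ?_, fun σ τ => ?_⟩⟩
  · show _ * ((φ x).map j).map σ = (φ x).map j * _
    rw [hresm, hg', smul_mul_assoc, mul_smul_comm, ← Matrix.map_mul, hg, Matrix.map_mul]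
  · let z : F := j (c (res σ) (res τ)) * R (res σ * res τ) / (R (res σ) * σ (R (res τ)))
    have hz : z ^ d = 1 := by
      have e1 : σ (R (res τ)) ^ d = j (res σ (b (res τ) : F₁)) := by rw [← map_pow, hR, hres]
      simp only [z]
      rw [div_pow, mul_pow, mul_pow, hR, hR, e1, ← map_pow j, ← map_mul j, ← map_mul j, hb, mul_comm, div_self]
      exact fun h0 => mul_ne_zero (b (res σ)).ne_zero ((map_ne_zero (res σ)).2 (b (res τ)).ne_zero)
        ((map_eq_zero j).1 h0)
    have : NeZero d := ⟨hd.ne'⟩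
    have : NeZero (d : k) := ⟨Nat.cast_ne_zero.2 hd.ne'⟩
    obtain ⟨ζ, hζ⟩ := HasEnoughRootsOfUnity.exists_primitiveRoot k d
    obtain ⟨i, -, hi⟩ := (hζ.map_of_injective (algebraMap k F).injective).eq_pow_of_pow_eq_one hz
    have : NeZero d := ⟨hd.ne'⟩
    refine ⟨ζ ^ i, ?_⟩
    rw [map_pow, hi, hg', hg', hg', map_mul res, Matrix.map_smulₛₗ σ σ _ (fun a => map_mul σ _ a), hresm,
      smul_mul_assoc, mul_smul_comm, ← Matrix.map_mul, hc, Matrix.map_smulₛₗ j j _ (fun a => map_mul j _ a),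
      smul_smul, smul_smul, smul_smul, map_inv₀]
    congr 1
    simp only [z]
    have := hR0 (res σ); have := hR0 (res σ * res τ)
    have : σ (R (res τ)) ≠ 0 := (map_ne_zero σ).2 (hR0 _)
    field_simp

theorem exists_muData :
    ∃ (F : Type u) (_ : Field F) (_ : Algebra k F) (_ : Algebra K F) (_ : Algebra E F),
      IsScalarTower k K F ∧ IsScalarTower K E F ∧ FiniteDimensional K F ∧ IsGalois K F ∧
        Nonempty (MuData k E D F) := by
  obtain ⟨F₁, _, _, h⟩ := CSA.exists_galois_splitting E D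
  letI : Algebra K F₁ := ((algebraMap E F₁).comp (algebraMap K E)).toAlgebra
  letI : Algebra k F₁ := ((algebraMap K F₁).comp (algebraMap k K)).toAlgebra
  have : IsScalarTower k K F₁ := IsScalarTower.of_algebraMap_eq fun _ => rfl
  have : IsScalarTower K E F₁ := IsScalarTower.of_algebraMap_eq fun _ => rfl
  exact exists_muData_aux D F₁ h

end Groth.GaloisBrauer.H13
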