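import Groth.Agent.GaloisBrauer.H13.Coboundary
import Groth.Agent.GaloisBrauer.H13.MuCocycle
import Groth.Agent.GaloisBrauer.H90GL
import Groth.Agent.CiFields.Brauer
import Groth.Agent.CiFields.Basic
/-! # A split form is trivial over a field where the Galois action descends to transcendence degree one -/

universe u

open scoped TensorProduct MatrixGroups

namespace Groth.GaloisBrauer.H13

/-- Fields of transcendence degree at most one over an algebraically closed field have trivial Brauer group. -/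
theorem finrank_eq_one_of_trdeg (k : Type u) [Field k] [IsAlgClosed k] (K : Type u) [Field K] [Algebra k K]
    (h : Algebra.trdeg k K ≤ 1) (D : Type u) [DivisionRing D] [Algebra K D] [Algebra.IsCentral K D]
    [FiniteDimensional K D] : Module.finrank K D = 1 := by
  obtain ⟨j, hj⟩ := Cardinal.lt_aleph0.1 (h.trans_lt Cardinal.one_lt_aleph0)
  have hj1 : j ≤ 1 := by rw [hj] at h; exact_mod_cast h
  have hC := CiFields.tsen_lang k K j hj
  refine CiFields.finrank_eq_one_of_isCr_one (CiFields.isCr_of_isCi (fun r n f d hf hd hlt => hC r n f d hf hd ?_)) D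
  exact lt_of_le_of_lt (Finset.sum_le_sum fun i _ => Nat.pow_le_pow_right (hd i) hj1) hlt

variable {k E : Type u} [Field k] [IsAlgClosed k] [Field E] [Algebra k E]
  {D : Type u} [DivisionRing D] [Algebra E D] [Algebra.IsCentral E D] [FiniteDimensional E D]
  {F : Type u} [Field F] [Algebra k F] [Algebra E F] [IsScalarTower k E F] [Normal E F]

open Classical in
/-- If the Galois group of `N/M` is seen on the elements algebraic over a field of transcendence degree at most one,
then `M` splits `D`. -/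
theorem splits_of_faithful (Δ : MuData k E D F) (M : Type u) [Field M] [Algebra E M]
    (N : Type u) [Field N] [Algebra k N] [Algebra E N] [Algebra M N] [IsScalarTower k E N] [IsScalarTower E M N]
    [Algebra F N] [IsScalarTower E F N] [FiniteDimensional M N] [IsGalois M N]
    (L₀ : Type u) [Field L₀] [Algebra k L₀] [Algebra L₀ N] [IsScalarTower k L₀ N]
    (htr : Algebra.trdeg k L₀ ≤ 1)
    (hfix : ∀ (γ : N ≃ₐ[M] N) (r : L₀), γ (algebraMap L₀ N r) = algebraMap L₀ N r)
    (hfaith : ∀ γ : N ≃ₐ[M] N, (∀ x : N, IsIntegral L₀ x → γ x = x) → γ = 1) :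
    ∃ n : ℕ, Nonempty ((M ⊗[E] D) ≃ₐ[M] Matrix (Fin n) (Fin n) M) := by
  obtain ⟨n, hn, hdim, φ, g, hconj, hcoc⟩ := Δ
  let F₀ : IntermediateField L₀ N := algebraicClosure L₀ N
  have hstab : ∀ (γ : N ≃ₐ[M] N) (x : F₀), γ x ∈ F₀ := fun γ x =>
    mem_algebraicClosure_iff.2 (IsAlgebraic.algHom ({ γ.toAlgHom.toRingHom with commutes' := hfix γ } : N →ₐ[L₀] N)
      (mem_algebraicClosure_iff.1 x.2))
  letI : MulSemiringAction (N ≃ₐ[M] N) F₀ :=
    { smul := fun γ x => ⟨γ x, hstab γ x⟩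
      one_smul := fun x => Subtype.ext rfl
      mul_smul := fun γ δ x => Subtype.ext rfl
      smul_zero := fun γ => Subtype.ext (map_zero γ)
      smul_add := fun γ x y => Subtype.ext (map_add γ _ _)
      smul_one := fun γ => Subtype.ext (map_one γ)
      smul_mul := fun γ x y => Subtype.ext (map_mul γ _ _) }
  have hsmul : ∀ (γ : N ≃ₐ[M] N) (x : F₀), ((γ • x : F₀) : N) = γ x := fun γ x => rfl
  have : FaithfulSMul (N ≃ₐ[M] N) F₀ := ⟨fun {γ δ} h => by
    refine inv_mul_eq_one.1 (hfaith (γ⁻¹ * δ) fun x hx => ?_)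
    have := congrArg Subtype.val (h ⟨x, mem_algebraicClosure_iff.2 hx.isAlgebraic⟩)
    rw [hsmul, hsmul] at this
    rw [AlgEquiv.mul_apply, ← this]
    exact AlgEquiv.symm_apply_apply γ x⟩
  let E₀ := FixedPoints.subfield (N ≃ₐ[M] N) F₀
  let α : (N ≃ₐ[M] N) ≃* (F₀ ≃ₐ[E₀] F₀) := FixedPoints.toAlgAutMulEquiv (N ≃ₐ[M] N) F₀
  have hα : ∀ γ (x : F₀), α γ x = γ • x := fun γ x => rfl
  have hk : ∀ (γ : N ≃ₐ[M] N) (z : k), γ (algebraMap k N z) = algebraMap k N z := fun γ z => by
    rw [IsScalarTower.algebraMap_apply k E N, IsScalarTower.algebraMap_apply E M N, γ.commutes]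
  let kE₀ : k →+* E₀ := (algebraMap k F₀).codRestrict E₀ fun z γ => Subtype.ext (hk γ z)
  letI : Algebra k E₀ := kE₀.toAlgebra
  have htr₀ : Algebra.trdeg k E₀ ≤ 1 := by
    let f : E₀ →ₐ[k] F₀ := { (algebraMap E₀ F₀) with commutes' := fun z => rfl }
    refine (trdeg_le_of_injective f f.toRingHom.injective).trans ?_
    rw [← trdeg_add_eq k L₀ (A := F₀), trdeg_eq_zero (R := L₀) (A := F₀), add_zero]
    exact htr
  let res : (N ≃ₐ[M] N) →* (F ≃ₐ[E] F) :=
    (AlgEquiv.restrictNormalHom F).comp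
      { toFun := fun γ => γ.restrictScalars E, map_one' := rfl, map_mul' := fun _ _ => rfl }
  let j : F →ₐ[E] N := IsScalarTower.toAlgHom E F N
  have hjz : ∀ z : k, j (algebraMap k F z) = algebraMap k N z := fun z => by
    rw [IsScalarTower.algebraMap_apply k E F, AlgHom.commutes, ← IsScalarTower.algebraMap_apply]
  have hres : ∀ γ x, j (res γ x) = γ (j x) := fun γ x => AlgEquiv.restrictNormal_commutes _ F x
  have hresm : ∀ (γ : N ≃ₐ[M] N) (X : Matrix (Fin n) (Fin n) F), (X.map j).map γ = (X.map (res γ)).map j :=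
    fun γ X => by rw [Matrix.map_map, Matrix.map_map]; exact congrArg X.map (funext fun x => (hres γ x).symm)
  let G : (N ≃ₐ[M] N) → GL (Fin n) N := fun γ =>
    Units.map (j.toRingHom.mapMatrix : Matrix (Fin n) (Fin n) F →+* Matrix (Fin n) (Fin n) N).toMonoidHom (g (res γ))
  have hG : ∀ γ, (G γ : Matrix (Fin n) (Fin n) N) = (g (res γ) : Matrix (Fin n) (Fin n) F).map j := fun _ => rfl
  choose z hz using hcoc
  have hG2 : ∀ γ δ, (G γ : Matrix (Fin n) (Fin n) N) * (G δ : Matrix (Fin n) (Fin n) N).map γ =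
      algebraMap k N (z (res γ) (res δ)) • (G (γ * δ) : Matrix (Fin n) (Fin n) N) := fun γ δ => by
    rw [hG, hG, hG, hresm, ← Matrix.map_mul, hz, map_mul, Matrix.map_smulₛₗ j j _ (fun a => map_mul j _ a), hjz]
  have hGne : ∀ γ, (G γ : Matrix (Fin n) (Fin n) N) ≠ 0 := fun γ => by
    have : Nonempty (Fin n) := ⟨⟨0, Nat.pos_of_ne_zero hn⟩⟩
    exact (G γ).isUnit.ne_zero
  have hz0 : ∀ σ τ, z σ τ ≠ 0 := fun σ τ h => by
    have : Nonempty (Fin n) := ⟨⟨0, Nat.pos_of_ne_zero hn⟩⟩
    have hu : IsUnit ((g σ : Matrix (Fin n) (Fin n) F) * (g τ : Matrix (Fin n) (Fin n) F).map σ) :=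
      (g σ).isUnit.mul ((g τ).isUnit.map (σ : F →+* F).mapMatrix)
    exact hu.ne_zero (by rw [hz, h, map_zero, zero_smul])
  -- the cocycle on the faithful field
  have hcocN : ∀ γ δ ε, algebraMap k N (z (res δ) (res ε)) * algebraMap k N (z (res γ) (res (δ * ε))) =
      algebraMap k N (z (res γ) (res δ)) * algebraMap k N (z (res (γ * δ)) (res ε)) := fun γ δ ε => by
    refine smul_left_injective N (hGne (γ * δ * ε)) ?_
    have h1 := congrArg (fun X : Matrix (Fin n) (Fin n) N => (G γ : Matrix (Fin n) (Fin n) N) * X.map γ) (hG2 δ ε)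
    simp only [Matrix.map_mul (f := γ), Matrix.map_map] at h1
    rw [Matrix.map_smulₛₗ γ γ _ (fun a => map_mul γ _ a), ← mul_assoc, hG2, mul_smul_comm, hG2, hk,
      smul_mul_assoc, smul_smul] at h1
    show (_ * _) • (G (γ * δ * ε) : Matrix (Fin n) (Fin n) N) = _
    rw [mul_assoc γ δ ε, ← h1, show (G ε : Matrix (Fin n) (Fin n) N).map (γ ∘ δ) =
      (G ε : Matrix (Fin n) (Fin n) N).map (γ * δ : N ≃ₐ[M] N) from rfl, hG2, smul_smul, mul_assoc γ δ ε]
  let c : (F₀ ≃ₐ[E₀] F₀) → (F₀ ≃ₐ[E₀] F₀) → F₀ˣ := fun s t =>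
    Units.mk0 (algebraMap k F₀ (z (res (α.symm s)) (res (α.symm t)))) ((map_ne_zero _).2 (hz0 _ _))
  have hc : ∀ s t r, s (c t r : F₀) * c s (t * r) = (c s t : F₀) * c (s * t) r := fun s t r => by
    have h := hcocN (α.symm s) (α.symm t) (α.symm r)
    rw [← map_mul α.symm, ← map_mul α.symm] at h
    have hs : s (c t r : F₀) = c t r := by
      obtain ⟨γ, rfl⟩ := α.surjective s
      exact Subtype.ext (hk γ _)
    rw [hs]
    exact Subtype.ext h
  obtain ⟨b, hb⟩ := exists_coboundary E₀ F₀ (fun D' _ _ _ _ => finrank_eq_one_of_trdeg k E₀ htr₀ D') c hc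
  let β : (N ≃ₐ[M] N) → N := fun γ => ((b (α γ) : F₀) : N)
  have hβ0 : ∀ γ, β γ ≠ 0 := fun γ h => (b (α γ)).ne_zero (Subtype.ext h)
  have hβ : ∀ γ δ, algebraMap k N (z (res γ) (res δ)) * β (γ * δ) = β γ * γ (β δ) := fun γ δ => by
    have h := congrArg Subtype.val (hb (α γ) (α δ))
    rw [← map_mul] at h
    simp only [c, MulEquiv.symm_apply_apply, hα] at h
    exact h
  let B : (N ≃ₐ[M] N) → GL (Fin n) N := fun γ =>
    Units.map (algebraMap N (Matrix (Fin n) (Fin n) N)).toMonoidHom (Units.mk0 _ (inv_ne_zero (hβ0 γ))) * G γ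
  have hB : ∀ γ, (B γ : Matrix (Fin n) (Fin n) N) = (β γ)⁻¹ • (G γ : Matrix (Fin n) (Fin n) N) :=
    fun γ => (Algebra.smul_def _ _).symm
  obtain ⟨P, hP⟩ := exists_gl_fixed B fun γ δ => by
    rw [hB, hB, hB, Matrix.map_smulₛₗ γ γ _ (fun a => map_mul γ _ a), map_inv₀, smul_mul_assoc, mul_smul_comm, hG2,
      smul_smul, smul_smul]
    congr 1
    have h0 : γ (β δ) ≠ 0 := (map_ne_zero γ).2 (hβ0 δ)
    have := hβ0 γ; have := hβ0 (γ * δ)
    field_simp
    linear_combination hβ γ δ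
  let Ψ : D →ₐ[E] Matrix (Fin n) (Fin n) N :=
    ((MulSemiringAction.toAlgEquiv E (Matrix (Fin n) (Fin n) N) (ConjAct.toConjAct P⁻¹)).toAlgHom).comp
      (j.mapMatrix.comp φ)
  have hΨ : ∀ x, Ψ x = ((P⁻¹ : GL (Fin n) N) : Matrix (Fin n) (Fin n) N) * (φ x).map j * (P : Matrix (Fin n) (Fin n) N) := by
    intro x
    show (ConjAct.toConjAct P⁻¹) • (j.mapMatrix (φ x)) = _
    rw [ConjAct.units_smul_def, ConjAct.ofConjAct_toConjAct, inv_inv]
    rfl
  have hΨfix : ∀ (γ : N ≃ₐ[M] N) x, (Ψ x).map γ = Ψ x := fun γ x => by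
    have hPi : ((P⁻¹ : GL (Fin n) N) : Matrix (Fin n) (Fin n) N).map γ =
        ((P⁻¹ : GL (Fin n) N) : Matrix (Fin n) (Fin n) N) * B γ := by
      refine (P.isUnit.map (γ : N →+* N).mapMatrix).mul_right_cancel ?_
      show _ * (P : Matrix (Fin n) (Fin n) N).map γ = _ * (P : Matrix (Fin n) (Fin n) N).map γ
      rw [mul_assoc _ (B γ : Matrix (Fin n) (Fin n) N), hP, Units.inv_mul, ← Matrix.map_mul, Units.inv_mul,
        Matrix.map_one γ (map_zero γ) (map_one γ)]
    have h2 : (B γ : Matrix (Fin n) (Fin n) N) * ((φ x).map j).map γ = (φ x).map j * B γ := by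
      rw [hB, hG, smul_mul_assoc, hresm, mul_smul_comm, ← Matrix.map_mul, ← Matrix.map_mul, hconj]
    rw [hΨ, Matrix.map_mul, Matrix.map_mul, hPi, mul_assoc _ (B γ : Matrix (Fin n) (Fin n) N), h2, ← mul_assoc,
      mul_assoc _ (B γ : Matrix (Fin n) (Fin n) N), hP]
  have hM : ∀ x a b, ∃ m : M, algebraMap M N m = Ψ x a b := fun x a b =>
    (IsGalois.mem_range_algebraMap_iff_fixed _).2 fun γ => congrFun (congrFun (hΨfix γ x) a) b
  choose m hm using hM
  let i : Matrix (Fin n) (Fin n) M →ₐ[E] Matrix (Fin n) (Fin n) N := (IsScalarTower.toAlgHom E M N).mapMatrix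
  have hi : Function.Injective i := Matrix.map_injective (algebraMap M N).injective
  have him : ∀ x, i (Matrix.of (m x)) = Ψ x := fun x => Matrix.ext fun a b => hm x a b
  let ψ : D →ₐ[E] Matrix (Fin n) (Fin n) M :=
    { toFun := fun x => Matrix.of (m x)
      map_one' := hi (by rw [him, map_one, map_one])
      map_mul' := fun x y => hi (by rw [map_mul, him, him, him, map_mul])
      map_zero' := hi (by rw [him, map_zero, map_zero])
      map_add' := fun x y => hi (by rw [map_add, him, him, him, map_add])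
      commutes' := fun r => hi (by rw [him, AlgHom.commutes, AlgHom.commutes]) }
  have : Nonempty (Fin n) := ⟨⟨0, Nat.pos_of_ne_zero hn⟩⟩
  have := CSA.isSimpleRing_baseChange E D M
  let Φ : M ⊗[E] D →ₐ[M] Matrix (Fin n) (Fin n) M :=
    Algebra.TensorProduct.lift (Algebra.ofId M _) ψ fun r x => Algebra.commutes r _
  have hinj : Function.Injective Φ := RingHom.injective Φ.toRingHom
  have hsurj : Function.Surjective Φ :=
    (LinearMap.injective_iff_surjective_of_finrank_eq_finrank (f := Φ.toLinearMap)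
      (by rw [Module.finrank_baseChange, hdim, Module.finrank_matrix, Module.finrank_self, mul_one,
        Fintype.card_fin, sq])).1 hinj
  exact ⟨n, ⟨AlgEquiv.ofBijective Φ ⟨hinj, hsurj⟩⟩⟩

end Groth.GaloisBrauer.H13
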