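import Groth.Agent.GaloisBrauer.H13.FieldSplit
import Groth.Agent.H1Proper.FpqcTorsor
import Groth.Prelude.Def_ActBC
import Mathlib.AlgebraicGeometry.Morphisms.Finite
import Mathlib.AlgebraicGeometry.Sites.Proetale
/-! # Essential dimension one after base change to `L` splits the algebra over every field above `L` -/

set_option autoImplicit false
set_option backward.isDefEq.respectTransparency false
set_option backward.isDefEq.respectTransparency.types false
set_option synthInstance.maxHeartbeats 400000

universe u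

open CategoryTheory CategoryTheory.Limits AlgebraicGeometry
open scoped TensorProduct

namespace Groth.GaloisBrauer.H13

theorem etalePrecoverage_le_fpqc : Scheme.etalePrecoverage.{u} ≤ Scheme.fpqcPrecoverage :=
  Scheme.etalePrecoverage_le_proetalePrecoverage.trans Scheme.proetalePrecoverage_le_fpqcPrecoverage

theorem isFinite_torsor {T : Scheme.{u}} {G : Over T} [GrpObj G] [IsFinite G.hom]
    (c : NonAbH1.TorsorSch G Scheme.etalePrecoverage) : IsFinite c.X.hom := by
  have hd : MorphismProperty.DescendsAlong @IsFinite Groth.DescentBase.SFQ.{u} :=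
    Groth.EtaleBase.descendsAlong_isFinite
  obtain ⟨R, hR, hsec⟩ := c.isTorsor.2
  exact Groth.H1Proper.property_of_fpqc c.act c.isTorsor.1 @IsFinite
    ⟨R, etalePrecoverage_le_fpqc _ hR, hsec⟩ ‹_›

variable {k K E : Type u} [Field k] [IsAlgClosed k] [CharZero k] [Field K] [Algebra k K] [Field E]
  [Algebra k E] [Algebra K E] [IsScalarTower k K E]
  {D : Type u} [DivisionRing D] [Algebra E D] [Algebra.IsCentral E D] [FiniteDimensional E D]
  {F : Type u} [Field F] [Algebra k F] [Algebra K F] [Algebra E F] [IsScalarTower k K F] [IsScalarTower K E F]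
  [FiniteDimensional K F] [IsGalois K F]

open Classical in
theorem splits_of_ed_le_one (Δ : MuData k E D F)
    {S : Over (Spec (CommRingCat.of k))} [GrpObj S] [IsFinite S.hom]
    (L L₀ : Type u) [Field L] [Algebra K L] [Field L₀] [Algebra k L₀] [Algebra L₀ L]
    (hc : Spec.map (CommRingCat.ofHom (algebraMap L₀ L)) ≫ Spec.map (CommRingCat.ofHom (algebraMap k L₀)) =
      Spec.map (CommRingCat.ofHom (algebraMap K L)) ≫ Spec.map (CommRingCat.ofHom (algebraMap k K)))
    (c₀ : NonAbH1.TorsorSch (Red.bc (Spec.map (CommRingCat.ofHom (algebraMap k L₀))) S) Scheme.etalePrecoverage)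
    (htr : Algebra.trdeg k L₀ ≤ 1)
    (i : Red.bc (Spec.map (CommRingCat.ofHom (algebraMap L₀ L))) c₀.X ≅
      Red.bc (Spec.map (CommRingCat.ofHom (algebraMap K L))) (Over.mk (Spec.map (CommRingCat.ofHom (algebraMap K F)))))
    (M : Type u) [Field M] [Algebra K M] [Algebra E M] [Algebra L M] [IsScalarTower K E M] [IsScalarTower K L M] :
    ∃ n : ℕ, Nonempty ((M ⊗[E] D) ≃ₐ[M] Matrix (Fin n) (Fin n) M) := by
  have : IsScalarTower k E F := IsScalarTower.of_algebraMap_eq fun z => by
    rw [IsScalarTower.algebraMap_apply k K E, IsScalarTower.algebraMap_apply k K F,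
      IsScalarTower.algebraMap_apply K E F]
  have : FiniteDimensional E F := Module.Finite.of_restrictScalars_finite K E F
  have : IsGalois E F := IsGalois.tower_top_of_isGalois K E F
  let Ω := AlgebraicClosure M
  let ι : F →ₐ[E] Ω := IsAlgClosed.lift
  let b := Module.finBasis E F
  let N : IntermediateField M Ω := IntermediateField.adjoin M (Set.range fun j => ι (b j))
  have hιN : ∀ x, ι x ∈ N := fun x => by
    rw [← b.sum_repr x, map_sum]
    refine sum_mem fun j _ => ?_
    rw [map_smul, ← algebraMap_smul M (b.repr x j) (ι (b j))]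
    exact N.smul_mem (IntermediateField.subset_adjoin M _ ⟨j, rfl⟩)
  have : FiniteDimensional M N :=
    IntermediateField.finiteDimensional_adjoin fun x _ => Algebra.IsIntegral.isIntegral x
  have : CharZero K := charZero_of_injective_algebraMap (algebraMap k K).injective
  have : CharZero M := charZero_of_injective_algebraMap (algebraMap K M).injective
  have : IsAlgClosure M Ω := ⟨inferInstance, inferInstance⟩
  have : Normal M Ω := IsAlgClosure.normal M Ω
  have : Normal M N := IntermediateField.normal_iff_forall_map_le'.2 fun σ => by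
    rw [IntermediateField.adjoin_map, IntermediateField.adjoin_le_iff]
    rintro _ ⟨_, ⟨j, rfl⟩, rfl⟩
    letI : Algebra F Ω := ι.toRingHom.toAlgebra
    have : IsScalarTower E F Ω := IsScalarTower.of_algebraMap_eq fun r => (ι.commutes r).symm
    obtain ⟨y, hy⟩ : ∃ y, ι y = σ (ι (b j)) :=
      ⟨_, AlgHom.restrictNormal_commutes (σ.toAlgHom.restrictScalars E) F (b j)⟩
    exact (show σ (ι (b j)) = ι y from hy.symm) ▸ hιN y
  have : IsGalois M N := ⟨⟩
  letI : Algebra F N := (ι.toRingHom.codRestrict N.toSubfield hιN).toAlgebra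
  have : IsScalarTower E F N := IsScalarTower.of_algebraMap_eq fun r => Subtype.ext (ι.commutes r).symm
  letI : Algebra k N := ((algebraMap M N).comp ((algebraMap K M).comp (algebraMap k K))).toAlgebra
  have : IsScalarTower k E N := IsScalarTower.of_algebraMap_eq fun z => by
    rw [IsScalarTower.algebraMap_apply E M N, IsScalarTower.algebraMap_apply k K E,
      ← IsScalarTower.algebraMap_apply K E M]
    rfl
  letI : Algebra L₀ N := ((algebraMap M N).comp ((algebraMap L M).comp (algebraMap L₀ L))).toAlgebra
  have hkL : (algebraMap L₀ L).comp (algebraMap k L₀) = (algebraMap K L).comp (algebraMap k K) := by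
    rw [← Spec.map_comp, ← Spec.map_comp] at hc
    exact congrArg CommRingCat.Hom.hom (Spec.map_injective hc)
  have : IsScalarTower k L₀ N := IsScalarTower.of_algebraMap_eq fun z => by
    show algebraMap M N (algebraMap K M (algebraMap k K z)) = algebraMap M N (algebraMap L M _)
    rw [IsScalarTower.algebraMap_apply K L M]
    exact congrArg _ (congrArg _ (RingHom.congr_fun hkL z).symm)
  refine splits_of_faithful Δ M N L₀ htr (fun γ r => γ.commutes _) fun γ hγ => ?_
  let P := Spec (CommRingCat.of N)
  let pL : P ⟶ Spec (CommRingCat.of L) := Spec.map (CommRingCat.ofHom ((algebraMap M N).comp (algebraMap L M)))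
  let pF : P ⟶ Spec (CommRingCat.of F) := Spec.map (CommRingCat.ofHom (algebraMap F N))
  let pγ : P ⟶ P := Spec.map (CommRingCat.ofHom γ.toAlgHom.toRingHom)
  have hw : pF ≫ Spec.map (CommRingCat.ofHom (algebraMap K F)) = pL ≫ Spec.map (CommRingCat.ofHom (algebraMap K L)) := by
    rw [← Spec.map_comp, ← Spec.map_comp, ← CommRingCat.ofHom_comp, ← CommRingCat.ofHom_comp]
    congr 2
    refine RingHom.ext fun r => ?_
    show algebraMap F N (algebraMap K F r) = algebraMap M N (algebraMap L M (algebraMap K L r))
    rw [← IsScalarTower.algebraMap_apply K L M, IsScalarTower.algebraMap_apply K E F,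
      ← IsScalarTower.algebraMap_apply E F N, IsScalarTower.algebraMap_apply E M N,
      ← IsScalarTower.algebraMap_apply K E M]
  let yK : P ⟶ (Red.bc (Spec.map (CommRingCat.ofHom (algebraMap K L)))
      (Over.mk (Spec.map (CommRingCat.ofHom (algebraMap K F))))).left := pullback.lift pF pL hw
  let y : P ⟶ c₀.X.left := yK ≫ i.inv.left ≫ pullback.fst _ _
  have hyhom : y ≫ c₀.X.hom = pL ≫ Spec.map (CommRingCat.ofHom (algebraMap L₀ L)) := by
    have h1 : yK ≫ i.inv.left ≫ pullback.snd c₀.X.hom (Spec.map (CommRingCat.ofHom (algebraMap L₀ L))) = pL := by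
      have h : i.inv.left ≫ pullback.snd c₀.X.hom (Spec.map (CommRingCat.ofHom (algebraMap L₀ L))) =
          pullback.snd _ _ := Over.w i.inv
      rw [h]; exact pullback.lift_snd _ _ _
    simp only [y, Category.assoc, pullback.condition]
    rw [reassoc_of% h1]
  have hγL : pγ ≫ pL = pL := by
    rw [← Spec.map_comp, ← CommRingCat.ofHom_comp]
    congr 2
    refine RingHom.ext fun r => ?_
    exact γ.commutes _
  have : IsFinite (Red.bc (Spec.map (CommRingCat.ofHom (algebraMap k L₀))) S).hom :=
    inferInstanceAs (IsFinite (pullback.snd S.hom (Spec.map (CommRingCat.ofHom (algebraMap k L₀)))))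
  have : IsFinite c₀.X.hom := isFinite_torsor c₀
  have : IsAffine c₀.X.left := isAffine_of_isAffineHom c₀.X.hom
  have hγy : pγ ≫ y = y := by
    obtain ⟨φ, hφ⟩ : ∃ φ, Spec.map φ = c₀.X.left.isoSpec.inv ≫ c₀.X.hom := ⟨_, Spec.map_preimage _⟩
    obtain ⟨h, hh⟩ : ∃ h, Spec.map h = y ≫ c₀.X.left.isoSpec.hom := ⟨_, Spec.map_preimage _⟩
    have hfin : φ.hom.Finite := by
      rw [← IsFinite.SpecMap_iff, hφ]; infer_instance
    have hφh : φ ≫ h = CommRingCat.ofHom (algebraMap L₀ N) := Spec.map_injective (by
      rw [Spec.map_comp, hφ, hh, Category.assoc, Iso.hom_inv_id_assoc, hyhom, ← Spec.map_comp]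
      rfl)
    rw [← cancel_mono c₀.X.left.isoSpec.hom, Category.assoc, ← hh, ← Spec.map_comp]
    refine congrArg Spec.map (CommRingCat.hom_ext (RingHom.ext fun a => ?_))
    refine hγ (h a) ?_
    obtain ⟨p, hp, hp'⟩ := hfin.to_isIntegral a
    refine ⟨p, hp, ?_⟩
    have := congrArg h.hom hp'
    rw [map_zero, Polynomial.hom_eval₂, ← CommRingCat.hom_comp, hφh] at this
    exact this
  have hγK : pγ ≫ yK = yK := by
    rw [← cancel_mono i.inv.left]
    apply pullback.hom_ext
    · simpa only [Category.assoc] using hγy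
    · have h : i.inv.left ≫ pullback.snd c₀.X.hom (Spec.map (CommRingCat.ofHom (algebraMap L₀ L))) =
          pullback.snd _ _ := Over.w i.inv
      simp only [Category.assoc]
      erw [h]
      simp only [yK, pullback.lift_snd]
      exact hγL
  have hγF : pγ ≫ pF = pF := by
    have := congrArg (· ≫ pullback.fst _ _) hγK
    simpa only [Category.assoc, yK, pullback.lift_fst] using this
  rw [← Spec.map_comp, ← CommRingCat.ofHom_comp] at hγF
  have hfix := RingHom.congr_fun (congrArg CommRingCat.Hom.hom (Spec.map_injective hγF))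
  refine AlgEquiv.ext fun x => ?_
  obtain ⟨x, hx⟩ := x
  induction hx using IntermediateField.adjoin_induction with
  | mem z hz => obtain ⟨j, rfl⟩ := hz; exact hfix (b j)
  | algebraMap r => exact γ.commutes r
  | add x y hx hy h1 h2 => exact (map_add γ ⟨x, hx⟩ ⟨y, hy⟩).trans (congrArg₂ (· + ·) h1 h2)
  | inv x hx h1 => exact (map_inv₀ γ ⟨x, hx⟩).trans (congrArg (·⁻¹) h1)
  | mul x y hx hy h1 h2 => exact (map_mul γ ⟨x, hx⟩ ⟨y, hy⟩).trans (congrArg₂ (· * ·) h1 h2)

end Groth.GaloisBrauer.H13
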